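import Cfsg.Agent.Lib.Recog.SporBound.Sound

set_option autoImplicit false
set_option maxRecDepth 20000

/-! Generated certificate data, piece 0: generators and relators for the multiplier of PSU(6,2). -/

namespace CfsgLib.Recog.SporBound.UsixB
open CfsgLib.Recog.SporBound

noncomputable def ft0 : Q (ℕ) := (.leaf 0xb0000b70000b0000b50000b0000b10000a0000a70000a0000a50000a0000a100009000097000090000950000700007500008000081000060000870000800008200007000077000060000620000500005200004000042000040000410000300003200003000031000020000220000100001700001000015000000000070000000000500000000001000090000b2000070000a2000060000910000500008500005000071000040000650000300005700002000047000020000350000100002100000000012)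
noncomputable def ct0 : Q (ℕ) := (.leaf 0xb0000a00009000080000700006000050000400003000020000100000)
noncomputable def st0 : Q (List ℕ) := (.leaf [22, 23, 24, 0xc000000000000003000010000000007, 0xd000000000000003000010000000008, 0x1000000000b00000000010000000005000020000000004, 0x2000010000e00001000020000000005000030000100005, 0x200010000020000000003000030000100007, 0x3000010000f00001000030000000005000040000100006, 0x300010000030000000003000040000100008, 0x400012000040000000003000050000100008, 0x500014000050000000003000060000100007, 0x6000040001100004000060000000005000070000000006, 0x700015000070000000003000080000100007, 0x5000030000200004000070000000005000080000000009, 0x70000400002000010000e0000f0000e00001000020000400007000000000b00008000030000a, 0x60000700006000070001a0000200003000080000000005, 0x8000050001300005000080000000005000090000000005, 0x8000190001a00019000080000000005000090000000006, 0x90000600015000060000900000000050000a0000100004, 0x90001b0000900000000030000a0000000007, 0x9000170000900000000030000a0000000008, 0xa0000800016000080000a00000000050000b0000100004, 0xa0001c0000a00000000030000b0000000007, 0xa0001d0000a00000000030000b0000000008])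
noncomputable def et0 : Q (List ℕ) := (.leaf [0xb0000100000, 0x100001, 0xc0000100000, 0xd0000100000, 0x10000100002, 0x100000, 0xe0000100001, 0xf0000100001, 0x10000100001, 0x100000100002, 0x20000100003, 0x30000100004, 0x110000100003, 0x120000100003, 0x20000100002, 0x40000100005, 0x130000100004, 0x140000100004, 0x50000100006, 0x30000100002, 0x60000100007, 0x150000100005, 0x70000100008, 0x40000100003, 0x80000100009, 0x160000100006, 0x50000100004, 0x190000100008, 0x60000100005, 0x9000010000a, 0x1b0000100007, 0x170000100007, 0x1a0000100008, 0x180000100008, 0x70000100005, 0x190000100006, 0x80000100006, 0xa000010000b, 0x1c0000100009, 0x1d0000100009, 0x1e000010000a, 0x90000100007, 0x1f000010000a, 0x20000010000a, 0x21000010000b, 0xa0000100009, 0x22000010000b, 0x23000010000b])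

end CfsgLib.Recog.SporBound.UsixB
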